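import Cfsg.Agent.Lib.Golay.Search
import Cfsg.Prelude.Def_SporadicCombinatorics

/-!
# The ternary Golay code of the Prelude: parametrisation of the 729 words
-/

namespace Cfsg.Lib.Golay

open Finset

/-- numbering of the twelve positions -/
def A12 : Ix ArrayPt where
  n := 12
  idx p := 3 * p.1.val + p.2.val
  pt i := (Fin.ofNat 4 (i / 3), (i : ZMod 3))
  idx_lt := by decide
  pt_idx := by decide
  idx_pt := by decide

theorem card_arrayPt : Fintype.card ArrayPt = 12 := by decide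

/-- the word with prescribed entries at the positions 0, 1, 2, 3, 4, 6 -/
def tenc (a b c d e f : ZMod 3) : ArrayPt → ZMod 3 := fun p =>
  match A12.idx p with
  | 0 => a | 1 => b | 2 => c | 3 => d | 4 => e
  | 5 => a + b + c + 2 * d + 2 * e
  | 6 => f
  | 7 => 2 * b + c + 2 * d + e + f
  | 8 => a + 2 * b + d + 2 * e + f
  | 9 => a + 2 * b + 2 * c + 2 * d + 2 * f
  | 10 => a + c + d + e + 2 * f
  | _ => 2 * a + 2 * b + c + 2 * e + 2 * f

theorem mem_tetracode {t : Fin 4 → ZMod 3} :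
    t ∈ tetracode ↔ ∃ a b : ZMod 3, t = ![b, a, a + b, a + 2 * b] := by
  rw [tetracode, Submodule.mem_span_pair]
  revert t
  decide +kernel

theorem mem_ternary_iff {x : ArrayPt → ZMod 3} : x ∈ ternaryGolayCode ↔
    ∃ s : ZMod 3, (∀ i : Fin 4, x (i, 0) + x (i, 1) + x (i, 2) = -s) ∧
      ∀ a b : ZMod 3, x (0, b) + x (1, a) + x (2, a + b) + x (3, a + 2 * b) = s := by
  change IsTernaryGolayWord x ↔ _
  unfold IsTernaryGolayWord
  have h3 : ∀ f : ZMod 3 → ZMod 3, ∑ r, f r = f 0 + f 1 + f 2 := fun f => Fin.sum_univ_three f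
  simp only [h3, mem_tetracode, forall_exists_index]
  refine exists_congr fun s => and_congr_right fun _ => ⟨fun h a b => ?_, fun h t a b ht => ?_⟩
  · have := h _ a b rfl
    simpa [Fin.sum_univ_four] using this
  · subst ht
    simpa [Fin.sum_univ_four] using h a b

theorem tenc_mem (a b c d e f : ZMod 3) : tenc a b c d e f ∈ ternaryGolayCode := by
  rw [mem_ternary_iff]
  refine ⟨-(a + b + c), ?_⟩
  revert a b c d e f
  decide +kernel

theorem eq_tenc {x : ArrayPt → ZMod 3} (hx : x ∈ ternaryGolayCode) :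
    x = tenc (x (0, 0)) (x (0, 1)) (x (0, 2)) (x (1, 0)) (x (1, 1)) (x (2, 0)) := by
  obtain ⟨s, h1, h2⟩ := mem_ternary_iff.1 hx
  have c0 := h1 0
  have c1 := h1 1
  have c2 := h1 2
  have c3 := h1 3
  have t00 : x (0, 0) + x (1, 0) + x (2, 0) + x (3, 0) = s := h2 0 0
  have t01 : x (0, 1) + x (1, 0) + x (2, 1) + x (3, 2) = s := h2 0 1
  have t10 : x (0, 0) + x (1, 1) + x (2, 1) + x (3, 1) = s := h2 1 0
  have t11 : x (0, 1) + x (1, 1) + x (2, 2) + x (3, 0) = s := h2 1 1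
  have key : ∀ x00 x01 x02 x10 x11 x12 x20 x21 x22 x30 x31 x32 s : ZMod 3,
      x00 + x01 + x02 = -s → x10 + x11 + x12 = -s → x20 + x21 + x22 = -s → x30 + x31 + x32 = -s →
      x00 + x10 + x20 + x30 = s → x01 + x10 + x21 + x32 = s → x00 + x11 + x21 + x31 = s →
      x01 + x11 + x22 + x30 = s →
      x12 = x00 + x01 + x02 + 2 * x10 + 2 * x11 ∧ x21 = 2 * x01 + x02 + 2 * x10 + x11 + x20 ∧
      x22 = x00 + 2 * x01 + x10 + 2 * x11 + x20 ∧ x30 = x00 + 2 * x01 + 2 * x02 + 2 * x10 + 2 * x20 ∧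
      x31 = x00 + x02 + x10 + x11 + 2 * x20 ∧ x32 = 2 * x00 + 2 * x01 + x02 + 2 * x11 + 2 * x20 := by
    intro x00 x01 x02 x10 x11 x12 x20 x21 x22 x30 x31 x32 s
    grind
  obtain ⟨e1, e2, e3, e4, e5, e6⟩ := key _ _ _ _ _ _ _ _ _ _ _ _ _ c0 c1 c2 c3 t00 t01 t10 t11
  funext ⟨i, r⟩
  have hr : r = 0 ∨ r = 1 ∨ r = 2 := by revert r; decide
  fin_cases i <;> rcases hr with rfl | rfl | rfl
  exacts [rfl, rfl, rfl, rfl, rfl, e1, rfl, e2, e3, e4, e5, e6]

/-- the word number `i < 729` -/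
def tw (i : ℕ) : ArrayPt → ZMod 3 :=
  tenc (i : ZMod 3) (i / 3 : ℕ) (i / 9 : ℕ) (i / 27 : ℕ) (i / 81 : ℕ) (i / 243 : ℕ)

theorem mem_ternary_iff_tw {x : ArrayPt → ZMod 3} :
    x ∈ ternaryGolayCode ↔ ∃ i < 729, tw i = x := by
  constructor
  · intro hx
    rw [eq_tenc hx]
    have : ∀ a b c d e f : ZMod 3,
        a.val + 3 * b.val + 9 * c.val + 27 * d.val + 81 * e.val + 243 * f.val < 729 ∧
        ((a.val + 3 * b.val + 9 * c.val + 27 * d.val + 81 * e.val + 243 * f.val : ℕ) : ZMod 3) = a ∧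
        (((a.val + 3 * b.val + 9 * c.val + 27 * d.val + 81 * e.val + 243 * f.val) / 3 : ℕ) : ZMod 3) = b ∧
        (((a.val + 3 * b.val + 9 * c.val + 27 * d.val + 81 * e.val + 243 * f.val) / 9 : ℕ) : ZMod 3) = c ∧
        (((a.val + 3 * b.val + 9 * c.val + 27 * d.val + 81 * e.val + 243 * f.val) / 27 : ℕ) : ZMod 3) = d ∧
        (((a.val + 3 * b.val + 9 * c.val + 27 * d.val + 81 * e.val + 243 * f.val) / 81 : ℕ) : ZMod 3) = e ∧
        (((a.val + 3 * b.val + 9 * c.val + 27 * d.val + 81 * e.val + 243 * f.val) / 243 : ℕ) : ZMod 3) = f := by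
      decide +kernel
    obtain ⟨h0, h1, h2, h3, h4, h5, h6⟩ :=
      this (x (0, 0)) (x (0, 1)) (x (0, 2)) (x (1, 0)) (x (1, 1)) (x (2, 0))
    exact ⟨_, h0, by rw [tw, h1, h2, h3, h4, h5, h6]⟩
  · rintro ⟨i, -, rfl⟩
    exact tenc_mem ..

theorem tw_inj {i j : ℕ} (hi : i < 729) (hj : j < 729) (h : tw i = tw j) : i = j := by
  have key : ∀ i < 729, i = (tw i (0, 0)).val + 3 * (tw i (0, 1)).val + 9 * (tw i (0, 2)).val +
      27 * (tw i (1, 0)).val + 81 * (tw i (1, 1)).val + 243 * (tw i (2, 0)).val := by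
    decide +kernel
  rw [key i hi, h, ← key j hj]

theorem ncard_ternary (P : (ArrayPt → ZMod 3) → Prop) (p : ℕ → Bool)
    (h : ∀ i < 729, P (tw i) ↔ p i = true) :
    {x | x ∈ ternaryGolayCode ∧ P x}.ncard = cntB 729 p := by
  rw [cntB_eq, ← Set.ncard_coe_finset]
  symm
  apply Set.ncard_congr (fun i _ => tw i)
  · intro i hi
    simp only [coe_filter, mem_range, Set.mem_ofPred_eq] at hi
    exact ⟨tenc_mem .., (h _ hi.1).2 hi.2⟩
  · intro i j hi hj hij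
    simp only [coe_filter, mem_range, Set.mem_ofPred_eq] at hi hj
    exact tw_inj hi.1 hj.1 hij
  · rintro s ⟨hs, hP⟩
    obtain ⟨i, hi, rfl⟩ := mem_ternary_iff_tw.1 hs
    refine ⟨i, ?_, rfl⟩
    simp only [coe_filter, mem_range, Set.mem_ofPred_eq]
    exact ⟨hi, (h _ hi).1 hP⟩

/-- table of the supports -/
def tsTab : ℕ := 0x1fffffedea7fd5f77ebdd6fddfcfff5dfafe6dffff9fed7de7d35cf5bb7b47acfb3fbfda7f98d9ff875fc7fb7effffff0decfd7ddbfcfff2ffdde57fb5fe7eedd9fd7fc9fbedb7fabdb5fbefa279f79d586f7bd7df6dd7af77f6f75175e54857777f763f7cf7fd6bf5fd54f4ef3df33d2f736539725d1ff1af0cdffff3fefff4ffbde77df5d87c67f97ff5efffadf5feddd3fdefcafb7dbdfa15be7bf7abf9df96d8fff9df6fee5f37fd7e5fdafdfdc3dffffcfe8fffff7deb7d45df7cd7b77ba5a6fbddbbfafd9ef91f8b77e775569f77d7ef62d5df5ff45f7ed7bf6f57d77276ef57f59d4fd30f3ff27f3bf3cd2c71b51770d6f24ff6e7cf9efeeeeedbed5ccbcfcef7eeb6f76fc4e0edfcdfec7ebeeb9cadebfcb2eae49569b68aef5effce3efecfdee94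df6d66ce6ff4f16edcf6efbee7eddedacc4cbbebfeaf6b86b74afe93c9ce8fc77e78e6467f67b46fe5cc53e4de7be76c6ee71c7fe6745a65d64363d43e62ac3fe35e29e16e1fc0fff8ff7defff3dfcfe45db7df7c37fe5fd7e9dffff6feafd5fdfdcddb6fbbfa77bd7ba5aef9fd91f8adffff5fe97f67ff5e3fddddefc4fffffbdefffcdf3fef5d77d87ce7b15bf7a7dbafbdfadf9bf96d8d77f57276ed75f7bf67f5ef59d47d79f7ef6e77b77556df52d5ff4bf37f3cd20f3fd3ff2b51c71770b5f57fe7e2fffffdde9fdedd7fcffffff0dec7f75fb7e7ddcfdbfc5fbbdbefaedb9fb7faf79279d58fff6df9fe5dffffafee7dd7d35cd5fa7f77efff1ffede6fdbdddfc3fbcfbfdab7bf5b47a8d97f9ff8cf73f7fd6777857f76fd5bf54f4af7dd77f6bd76f7df6175f75e54653f73972df3ef33d2ff15d1af06efdcfbeef4fe6f16eded7edaccecf3efdee5efaeffcef6d94d66c86bf6b74abeb4cbfea3c9fe9ce876fb6fc4ecefbcf7eefcd0edfec9ef7cfeee24fd6ff6ebedeed5ccfcbdeb2eaeeb7eb9ca569e49b681c7ee7fe6be7de76c6a65745d64f67467b467e7fc78e6cc5fe53e4fe3ac35e2d43363e626e19e1fc0e3f73f91e5bfe9fbbef9ddbd2bccbfb9f7bef1f03ff3e7b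dbbdc9c29bdbbfbabbbebb59a939719e38d9f3bfebe6bf9bff9ef3da1d53cb3fd3f61eabf79fdbe19debdfbc7bbf9b8bac1bf3b33afb94b9b98bb7497fb6317f37c368b5fb5794f97eb71b6db77b7a96635d15b34533a33f12fb39936b2e913b1db079fabfdbed3fb3f61eebd19dfbc9bf6bff9e3bfd9febea1df3d53cf3bc1b33af9b7bb8ba4b9fb9b9803ff1ff3eb9fcbf7bebbd7bdc9ce9f5bfbbe73fe3f91edbdf9d2bcebbbbb59adbb29bfba719939e387b7db7a96eb7f971b6d15635b34f37317c36497bb7fb6fb58b5794993fb36b2a33533f123b1e91db0baff8f4ae88f7affae32dc2df0c50ff2fa2eeafdaf38efad68d9acfab1abe8a62bb0bd2ad89aa97a8dafeaf38ef2f50fa2e68dfad9ac7af88ffaef8fbaf4aec2d32df0cb0b62bd2a1abfabe8aaa9d897a8e07927726fa72a7d865a5b85ea42a7fa7d86927e07726b855a5ea4ca3783ba2783ca3ba2f21f21000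

/-- support mask of the word number `i` -/
def ts (i : ℕ) : ℕ := Nat.land (Nat.shiftRight tsTab (Nat.mul 12 i)) 4095

theorem ts_lt (i : ℕ) : ts i < 2 ^ 12 := land_4095_lt _

theorem ternarySupport_tw {i : ℕ} (hi : i < 729) : ternarySupport (tw i) = A12.toF (ts i) := by
  have : ∀ i < 729, ∀ p : ArrayPt, tw i p ≠ 0 ↔ (ts i).testBit (A12.idx p) = true := by
    decide +kernel
  ext p
  rw [Ix.mem_toF, ← this i hi p]
  simp [ternarySupport]

theorem card_ternarySupport_tw {i : ℕ} (hi : i < 729) :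
    (ternarySupport (tw i)).card = pc (ts i) := by
  rw [ternarySupport_tw hi, A12.card_toF_pc (by decide) (ts_lt i)]

theorem card_ternary : Nat.card ternaryGolayCode = 729 := by
  have := ncard_ternary (fun _ => True) (fun _ => true) (by simp)
  simp only [and_true] at this
  rw [show cntB 729 (fun _ => true) = 729 by decide +kernel] at this
  exact this

theorem ternary_weights {x : ArrayPt → ZMod 3} (hx : x ∈ ternaryGolayCode) (h0 : x ≠ 0) :
    (ternarySupport x).card = 6 ∨ (ternarySupport x).card = 9 ∨ (ternarySupport x).card = 12 := by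
  obtain ⟨i, hi, rfl⟩ := mem_ternary_iff_tw.1 hx
  rw [card_ternarySupport_tw hi]
  have : ∀ i < 729, i = 0 ∨ pc (ts i) = 6 ∨ pc (ts i) = 9 ∨ pc (ts i) = 12 := by decide +kernel
  rcases this i hi with rfl | h
  · exact absurd (by decide +kernel) h0
  · exact h

theorem ncard_ternary_weight (k : ℕ) :
    {x | x ∈ ternaryGolayCode ∧ (ternarySupport x).card = k}.ncard =
      cntB 729 fun i => Nat.beq (pc (ts i)) k :=
  ncard_ternary _ _ fun i hi => by rw [card_ternarySupport_tw hi, Nat.beq_eq]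

/-- the hexads of the ternary code -/
def ternHexads : Set (Finset ArrayPt) :=
  {h | ∃ x ∈ ternaryGolayCode, ternarySupport x = h ∧ h.card = 6}

/-- masks of the hexads of the ternary code -/
def ternHexL : List ℕ := [222, 237, 243, 347, 366, 373, 413, 427, 438, 455, 504, 591, 630, 633, 667, 679, 700, 725, 746, 791, 813, 826, 860, 867, 910, 945, 969, 978, 996, 1117, 1127, 1146, 1175, 1198, 1209, 1227, 1268, 1295, 1331, 1340, 1366, 1385, 1434, 1445, 1484, 1489, 1506, 1566, 1579, 1589, 1619, 1644, 1677, 1714, 1734, 1752, 1761, 1817, 1830, 1861, 1866, 1904, 1923, 1940, 1960, 2135, 2155, 2172, 2191, 2229, 2234, 2265, 2278, 2334, 2343, 2361, 2381, 2418, 2451, 2476, 2506, 2516, 2529, 2589, 2606, 2611, 2650, 2661, 2710, 2729, 2755, 2764, 2800, 2827, 2868, 2886, 2897, 2920, 2949, 2968, 2978, 3099, 3117, 3126, 3150, 3185, 3228, 3235, 3269, 3282, 3304, 3349, 3370, 3395, 3416, 3428, 3462, 3465, 3504, 3591, 3640, 3657,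 3668, 3682, 3722, 3729, 3748, 3852, 3858, 3873, 4032]

theorem ternHexads_eq : ternHexads = sysOf A12 (63 :: ternHexL) := by
  ext h
  constructor
  · rintro ⟨x, hx, rfl, h6⟩
    obtain ⟨i, hi, rfl⟩ := mem_ternary_iff_tw.1 hx
    rw [card_ternarySupport_tw hi] at h6
    have : allB 729 (fun i => force (ts i) fun m =>
      !(Nat.beq (pc m) 6) || memL m (63 :: ternHexL)) = true := by decide +kernel
    have := allB_iff.1 this i hi
    rw [force_eq, h6] at this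
    exact ⟨_, memL_iff.1 this, (ternarySupport_tw hi).symm⟩
  · rintro ⟨m, hm, rfl⟩
    have : allL (63 :: ternHexL) (fun m => Nat.beq (pc m) 6 &&
      anyB 729 fun i => Nat.beq m (ts i)) = true := by decide +kernel
    have := allL_iff.1 this m hm
    rw [Bool.and_eq_true, anyB_iff, Nat.beq_eq] at this
    obtain ⟨h6, i, hi, h⟩ := this
    rw [Nat.beq_eq] at h
    subst h
    exact ⟨_, tenc_mem .., ternarySupport_tw hi, by
      rw [A12.card_toF_pc (by decide) (ts_lt i), h6]⟩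

theorem ncard_ternHexads : ternHexads.ncard = 132 := by
  rw [ternHexads_eq, ncard_sysOf (by decide +kernel)]
  decide +kernel

end Cfsg.Lib.Golay
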