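import Cfsg.Agent.Lib.Golay.Search

/-!
# Uniqueness of S(2,3,9), S(3,4,10), S(4,5,11), S(5,6,12)
-/

set_option maxRecDepth 100000

namespace Cfsg.Lib.Golay

/-- blocks of the standard S(2,3,9) -/
def sysL9 : List ℕ := [19, 52, 73, 98, 152, 161, 196, 261, 296, 336, 386]

/-- search certificate -/
def steps9 : List (ℕ × ℕ × List (ℕ × ℕ)) := [(6,14,[(7,9043225610275),(22,9043224692768),(38,9043158665248),(70,9040004581408),(134,8905786886176),(262,3545667733536)]),
  (3,19,[(35,9043193202720),(67,9041080322080),(131,8940149639200),(259,4645183391776)]),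
  (34,98,[(162,9009939712032),(290,6846349936672)]),
  (130,386,[]),
  (20,52,[(84,9042185521184),(148,6777697568800),(276,6776657381408)]),
  (144,152,[(208,9039903921184)]),
  (160,161,[]),
  (132,196,[]),
  (5,261,[]),
  (9,73,[]),
  (40,296,[]),
  (80,336,[])]

/-- initial blocks -/
def init9 : List ℕ := []

theorem uq9 : Uq (ixFin 8) 2 3 (sysOf (ixFin 8) (14 :: sysL9)) init9 :=
  Uq.chain (by decide) (by decide) steps9 _ (by decide +kernel)
    (Uq.leaf (by decide) (by decide +kernel) (by decide +kernel) (by decide +kernel))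

theorem iso9 {γ : Type*} [Fintype γ] [DecidableEq γ] (hγ : Fintype.card γ = 9)
    {B : Set (Finset γ)} (hB : IsSteinerSystem 2 3 B) :
    SetSystemIso B (sysOf (ixFin 8) (14 :: sysL9)) := by
  exact uq9.iso_nil hγ hB

theorem unique9 {α β : Type*} [Fintype α] [DecidableEq α] [Fintype β] [DecidableEq β]
    (hα : Fintype.card α = 9) (hβ : Fintype.card β = 9) {B : Set (Finset α)}
    {B' : Set (Finset β)} (hB : IsSteinerSystem 2 3 B) (hB' : IsSteinerSystem 2 3 B') :
    SetSystemIso B B' :=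
  setSystemIso_trans (iso9 hα hB) (setSystemIso_symm (iso9 hβ hB'))

/-- blocks of the standard S(3,4,10) -/
def sysL10 : List ℕ := [58, 71, 92, 113, 139, 149, 166, 210, 232, 278, 281, 291, 330, 356, 396, 432, 449, 526, 531, 564, 585, 610, 664, 673, 708, 773, 808, 848, 898]

/-- search certificate -/
def steps10 : List (ℕ × ℕ × List (ℕ × ℕ)) := [(13,45,[(29,318040253239520),(141,323437046336544)]),
  (25,281,[]),
  (28,92,[]),
  (26,58,[]),
  (69,71,[]),
  (49,113,[]),
  (11,139,[]),
  (21,149,[]),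
  (134,166,[]),
  (82,210,[]),
  (104,232,[]),
  (22,278,[]),
  (35,291,[]),
  (74,330,[]),
  (100,356,[]),
  (140,396,[]),
  (176,432,[]),
  (193,449,[])]

/-- initial blocks -/
def init10 : List ℕ := [526, 531, 564, 585, 610, 664, 673, 708, 773, 808, 848, 898]

theorem uq10 : Uq (ixFin 9) 3 4 (sysOf (ixFin 9) (45 :: sysL10)) init10 :=
  Uq.chain (by decide) (by decide) steps10 _ (by decide +kernel)
    (Uq.leaf (by decide) (by decide +kernel) (by decide +kernel) (by decide +kernel))

theorem iso10 {γ : Type*} [Fintype γ] [DecidableEq γ] (hγ : Fintype.card γ = 10)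
    {B : Set (Finset γ)} (hB : IsSteinerSystem 3 4 B) :
    SetSystemIso B (sysOf (ixFin 9) (45 :: sysL10)) := by
  obtain ⟨p⟩ : Nonempty γ := Fintype.card_pos_iff.1 (by omega)
  refine uq10.iso_lift (L := 14 :: sysL9) (by decide +kernel) hB p
    (iso9 ?_ (steiner_derived hB p))
  rw [Fintype.card_subtype_compl, hγ, Fintype.card_subtype_eq]

theorem unique10 {α β : Type*} [Fintype α] [DecidableEq α] [Fintype β] [DecidableEq β]
    (hα : Fintype.card α = 10) (hβ : Fintype.card β = 10) {B : Set (Finset α)}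
    {B' : Set (Finset β)} (hB : IsSteinerSystem 3 4 B) (hB' : IsSteinerSystem 3 4 B') :
    SetSystemIso B B' :=
  setSystemIso_trans (iso10 hα hB) (setSystemIso_symm (iso10 hβ hB'))

/-- blocks of the standard S(4,5,11) -/
def sysL11 : List ℕ := [107, 118, 179, 188, 206, 217, 229, 302, 309, 333, 339, 376, 391, 410, 425, 468, 482, 551, 569, 597, 602, 620, 653, 662, 682, 707, 752, 779, 796, 818, 838, 865, 913, 932, 968, 1069, 1082, 1095, 1116, 1137, 1163, 1173, 1190, 1234, 1256, 1302, 1305, 1315, 1354, 1380, 1420, 1456, 1473, 1550, 1555, 1588, 1609, 1634, 1688, 1697, 1732, 1797, 1832, 1872, 1922]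

/-- search certificate -/
def steps11 : List (ℕ × ℕ × List (ℕ × ℕ)) := [(15,31,[(271,11480180357073952)]),
  (75,107,[]),
  (54,118,[]),
  (51,179,[]),
  (156,188,[]),
  (78,206,[]),
  (89,217,[]),
  (197,229,[]),
  (46,302,[]),
  (53,309,[]),
  (77,333,[]),
  (83,339,[]),
  (312,376,[]),
  (263,391,[]),
  (154,410,[]),
  (169,425,[]),
  (212,468,[]),
  (226,482,[]),
  (39,551,[]),
  (57,569,[]),
  (85,597,[]),
  (90,602,[]),
  (108,620,[]),
  (141,653,[]),
  (150,662,[]),
  (170,682,[]),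
  (195,707,[]),
  (240,752,[]),
  (267,779,[]),
  (284,796,[]),
  (306,818,[]),
  (326,838,[]),
  (353,865,[]),
  (401,913,[]),
  (420,932,[]),
  (456,968,[])]

/-- initial blocks -/
def init11 : List ℕ := [1069, 1082, 1095, 1116, 1137, 1163, 1173, 1190, 1234, 1256, 1302, 1305, 1315, 1354, 1380, 1420, 1456, 1473, 1550, 1555, 1588, 1609, 1634, 1688, 1697, 1732, 1797, 1832, 1872, 1922]

theorem uq11 : Uq (ixFin 10) 4 5 (sysOf (ixFin 10) (31 :: sysL11)) init11 :=
  Uq.chain (by decide) (by decide) steps11 _ (by decide +kernel)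
    (Uq.leaf (by decide) (by decide +kernel) (by decide +kernel) (by decide +kernel))

theorem iso11 {γ : Type*} [Fintype γ] [DecidableEq γ] (hγ : Fintype.card γ = 11)
    {B : Set (Finset γ)} (hB : IsSteinerSystem 4 5 B) :
    SetSystemIso B (sysOf (ixFin 10) (31 :: sysL11)) := by
  obtain ⟨p⟩ : Nonempty γ := Fintype.card_pos_iff.1 (by omega)
  refine uq11.iso_lift (L := 45 :: sysL10) (by decide +kernel) hB p
    (iso10 ?_ (steiner_derived hB p))
  rw [Fintype.card_subtype_compl, hγ, Fintype.card_subtype_eq]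

theorem unique11 {α β : Type*} [Fintype α] [DecidableEq α] [Fintype β] [DecidableEq β]
    (hα : Fintype.card α = 11) (hβ : Fintype.card β = 11) {B : Set (Finset α)}
    {B' : Set (Finset β)} (hB : IsSteinerSystem 4 5 B) (hB' : IsSteinerSystem 4 5 B') :
    SetSystemIso B B' :=
  setSystemIso_trans (iso11 hα hB) (setSystemIso_symm (iso11 hβ hB'))

/-- blocks of the standard S(5,6,12) -/
def sysL12 : List ℕ := [175, 215, 250, 315, 350, 359, 413, 438, 459, 492, 497, 574, 591, 627, 667, 693, 732, 742, 745, 791, 813, 857, 874, 884, 910, 931, 952, 965, 978, 1079, 1115, 1134, 1182, 1209, 1229, 1251, 1268, 1295, 1340, 1365, 1385, 1394, 1427, 1445, 1450, 1478, 1496, 1565, 1579, 1622, 1637, 1656, 1671, 1708, 1714, 1738, 1745, 1818, 1830, 1841, 1859, 1868, 1929, 1940, 2016, 2079, 2155, 2166, 2227, 2236, 2254, 2265, 2277, 2350, 2357, 2381, 2387, 2424, 2439, 2458, 2473, 2516, 2530, 2599, 2617, 2645, 2650, 2668, 2701, 2710, 2730, 2755, 2800, 2827, 2844, 2866, 2886, 2913, 2961, 2980,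 3016, 3117, 3130, 3143, 3164, 3185, 3211, 3221, 3238, 3282, 3304, 3350, 3353, 3363, 3402, 3428, 3468, 3504, 3521, 3598, 3603, 3636, 3657, 3682, 3736, 3745, 3780, 3845, 3880, 3920, 3970]

/-- search certificate -/
def steps12 : List (ℕ × ℕ × List (ℕ × ℕ)) := [(61,125,[]),
  (47,175,[]),
  (87,215,[]),
  (122,250,[]),
  (59,315,[]),
  (94,350,[]),
  (103,359,[]),
  (157,413,[]),
  (182,438,[]),
  (203,459,[]),
  (236,492,[]),
  (241,497,[]),
  (62,574,[]),
  (79,591,[]),
  (115,627,[]),
  (155,667,[]),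
  (181,693,[]),
  (220,732,[]),
  (230,742,[]),
  (233,745,[]),
  (279,791,[]),
  (301,813,[]),
  (345,857,[]),
  (362,874,[]),
  (372,884,[]),
  (398,910,[]),
  (419,931,[]),
  (440,952,[]),
  (453,965,[]),
  (466,978,[]),
  (55,1079,[]),
  (91,1115,[]),
  (110,1134,[]),
  (158,1182,[]),
  (185,1209,[]),
  (205,1229,[]),
  (227,1251,[]),
  (244,1268,[]),
  (271,1295,[]),
  (316,1340,[]),
  (341,1365,[]),
  (361,1385,[]),
  (370,1394,[]),
  (403,1427,[]),
  (421,1445,[]),
  (426,1450,[]),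
  (454,1478,[]),
  (472,1496,[]),
  (541,1565,[]),
  (555,1579,[]),
  (598,1622,[]),
  (613,1637,[]),
  (632,1656,[]),
  (647,1671,[]),
  (684,1708,[]),
  (690,1714,[]),
  (714,1738,[]),
  (721,1745,[]),
  (794,1818,[]),
  (806,1830,[]),
  (817,1841,[]),
  (835,1859,[]),
  (844,1868,[]),
  (905,1929,[]),
  (916,1940,[]),
  (992,2016,[])]

/-- initial blocks -/
def init12 : List ℕ := [2079, 2155, 2166, 2227, 2236, 2254, 2265, 2277, 2350, 2357, 2381, 2387, 2424, 2439, 2458, 2473, 2516, 2530, 2599, 2617, 2645, 2650, 2668, 2701, 2710, 2730, 2755, 2800, 2827, 2844, 2866, 2886, 2913, 2961, 2980, 3016, 3117, 3130, 3143, 3164, 3185, 3211, 3221, 3238, 3282, 3304, 3350, 3353, 3363, 3402, 3428, 3468, 3504, 3521, 3598, 3603, 3636, 3657, 3682, 3736, 3745, 3780, 3845, 3880, 3920, 3970]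

theorem uq12 : Uq (ixFin 11) 5 6 (sysOf (ixFin 11) (125 :: sysL12)) init12 :=
  Uq.chain (by decide) (by decide) steps12 _ (by decide +kernel)
    (Uq.leaf (by decide) (by decide +kernel) (by decide +kernel) (by decide +kernel))

theorem iso12 {γ : Type*} [Fintype γ] [DecidableEq γ] (hγ : Fintype.card γ = 12)
    {B : Set (Finset γ)} (hB : IsSteinerSystem 5 6 B) :
    SetSystemIso B (sysOf (ixFin 11) (125 :: sysL12)) := by
  obtain ⟨p⟩ : Nonempty γ := Fintype.card_pos_iff.1 (by omega)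
  refine uq12.iso_lift (L := 31 :: sysL11) (by decide +kernel) hB p
    (iso11 ?_ (steiner_derived hB p))
  rw [Fintype.card_subtype_compl, hγ, Fintype.card_subtype_eq]

theorem unique12 {α β : Type*} [Fintype α] [DecidableEq α] [Fintype β] [DecidableEq β]
    (hα : Fintype.card α = 12) (hβ : Fintype.card β = 12) {B : Set (Finset α)}
    {B' : Set (Finset β)} (hB : IsSteinerSystem 5 6 B) (hB' : IsSteinerSystem 5 6 B') :
    SetSystemIso B B' :=
  setSystemIso_trans (iso12 hα hB) (setSystemIso_symm (iso12 hβ hB'))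

end Cfsg.Lib.Golay
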